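import Groth.Agent.TautSh.K254.MuMap
import Groth.Agent.TautSh.K974.ThroughPtMain
import Groth.Agent.TautSh.K888.HilbReg
import Groth.Agent.AbVar.K527.DimSet
import Groth.Agent.CurvesC.PullIso
import Groth.Agent.CohqB.DevSplit
import Groth.Agent.CohqB.FinAmple
import Groth.Agent.NonPure.K981.ZeroDim
import Groth.Agent.Variety.K434.Rank
import Groth.Agent.Variety.K428.GenPush
import Groth.Agent.VarietyB.DegDev
import Groth.Agent.FormalB.PullCoh
import Groth.Agent.AdjLin.K800.Restr
import Groth.Agent.TautSh.K396.AlphaSq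

/-!
# The tautological sheaf of `L ⊗ I` for `I` the ideal of a finite subscheme, from the one of `L`
-/

set_option autoImplicit false
universe u
open CategoryTheory CategoryTheory.Limits AlgebraicGeometry TopologicalSpace

namespace K687.Taut

open Groth.Agent

section Supp

variable {X : Scheme.{u}}

/-- A map which is bijective on sections over all opens inside `U` has kernel and cokernel supported off `U`. -/
theorem support_ker_coker {M N : X.Modules} (φ : M ⟶ N) (U : X.Opens)
    (h : ∀ V : X.Opens, V ≤ U → Function.Bijective (φ.app V)) :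
    CohB1.support (kernel φ) ⊆ (U : Set X)ᶜ ∧ CohB1.support (cokernel φ) ⊆ (U : Set X)ᶜ := by
  have h1 : IsIso ((Scheme.Modules.restrictFunctor U.ι).map φ) := (CurvesC.Gen.isIso_restrict_iff φ U).2 h
  refine ⟨fun x hx hxU => ?_, fun x hx hxU => ?_⟩
  · have h2 := CohqB.DevSplit.isIso_stalk_of_isIso_restrict U φ x hxU
    exact CohqB.DevSplit.not_mem_support_kernel φ x inferInstance hx
  · have h2 := CohqB.DevSplit.isIso_stalk_of_isIso_restrict U φ x hxU
    exact CohqB.DevSplit.not_mem_support_cokernel φ x inferInstance hx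

/-- `L ⊗ I ⟶ L`. -/
noncomputable def psi (L : X.Modules) (I : X.IdealSheafData) :
    CohB1.tensorMod L (ClSub.idealMod I) ⟶ L :=
  (DCoh.tensorBi.obj L).map (ClSub.idealModι I) ≫ (Ega2.Tens.runit L).hom

theorem psi_bijective {L : X.Modules} (hL : PicF.IsInvertible L) (I : X.IdealSheafData) (V : X.Opens)
    (hV : (V : Set X) ⊆ (I.support : Set X)ᶜ) : Function.Bijective ((psi L I).app V) := by
  have hS := Fga.TwistCoh.shortExact_tensorBi hL _ (K800.Restr.S₀_shortExact I)
  have := hS.mono_f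
  have h1 : Function.Bijective (((DCoh.tensorBi.obj L).map (ClSub.idealModι I)).app V) := by
    refine @VarietyB.DegDev.app_bijective_of_stalk _ _ _ ((DCoh.tensorBi.obj L).map (ClSub.idealModι I)) hS.mono_f V
      fun x hx => ?_
    have h2 := CycB.StalkExact.stalkLin_exact _ hS.exact x
    have h3 : x ∉ CohB1.support (CohB1.tensorMod L (ClSub.quotMod I)) := by
      rw [K396.Taut.support_tens hL, K981.ZeroDim.support_quotMod]
      exact hV hx
    have h4 : Subsingleton ((CohB1.tensorMod L (ClSub.quotMod I)).presheaf.stalk x) := not_not.1 h3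
    intro y
    exact (h2 y).1 (@Subsingleton.elim _ h4 _ _)
  have h2 : IsIso ((Ega2.Tens.runit L).hom.app V) := inferInstance
  have h3 := (ConcreteCategory.isIso_iff_bijective _).1 h2
  exact h3.comp h1

end Supp

section Taut

variable {X S : Scheme.{u}} (f : X ⟶ S) (H : Over S) (J : (PicF.XT f H).IdealSheafData)

theorem taut_bijective {M N : X.Modules} (φ : M ⟶ N) (U : X.Opens)
    (h : ∀ V : X.Opens, V ≤ U → Function.Bijective (φ.app V)) (W : H.left.Opens)
    (hW : TautSh.famToH f H J ⁻¹ᵁ W ≤ TautSh.famToX f H J ⁻¹ᵁ U) :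
    Function.Bijective (((TautSh.tautFunctor f H J).map φ).app W) := by
  have h1 := CurvesC.PullIso.isIso_restrict_pullback (TautSh.famToX f H J) φ U
    ((CurvesC.Gen.isIso_restrict_iff φ U).2 h)
  exact (CurvesC.Gen.isIso_restrict_iff _ _).1 h1 _ hW

theorem taut_supports {M N : X.Modules} (φ : M ⟶ N) (U : X.Opens)
    (h : ∀ V : X.Opens, V ≤ U → Function.Bijective (φ.app V)) (T : Set H.left) (hT : IsClosed T)
    (hTs : ∀ z, TautSh.famToX f H J z ∉ U → TautSh.famToH f H J z ∈ T) :
    CohB1.support (kernel ((TautSh.tautFunctor f H J).map φ)) ⊆ T ∧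
      CohB1.support (cokernel ((TautSh.tautFunctor f H J).map φ)) ⊆ T := by
  let W : H.left.Opens := ⟨Tᶜ, hT.isOpen_compl⟩
  obtain ⟨hk, hc⟩ := support_ker_coker ((TautSh.tautFunctor f H J).map φ) W fun V hV =>
    taut_bijective f H J φ U h V fun z hz => by
      by_contra hz'
      exact hV hz (hTs z hz')
  exact ⟨fun x hx => not_not.1 (hk hx), fun x hx => not_not.1 (hc hx)⟩

theorem isCoh_taut [IsFinite (TautSh.famToH f H J)] {M : X.Modules} (hM : Coh.IsCoh M) :
    Coh.IsCoh (TautSh.taut f H J M) := by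
  have h1 := FormalB.PullCoh.isCoh_pullback (TautSh.famToX f H J) hM
  exact CohqB.FinAmple.isCoh_push (TautSh.famToH f H J) h1

theorem isCoh_idealTwist [IsLocallyNoetherian X] {L : X.Modules} (hL : PicF.IsInvertible L) (I : X.IdealSheafData) :
    Coh.IsCoh (CohB1.tensorMod L (ClSub.idealMod I)) :=
  K396.Taut.isCoh_tens hL (K428.GenPush.isCoh_idealMod I)

theorem le_two_of_lt_three {t : WithBot ℕ∞} (h : t < (3 : ℕ)) : t ≤ (2 : ℕ) := by
  induction t with
  | bot => exact bot_le
  | coe t =>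
    have h1 : t < ((3 : ℕ) : ℕ∞) := WithBot.coe_lt_coe.1 h
    have h2 : t ≤ ((2 : ℕ) : ℕ∞) := (ENat.lt_add_one_iff (ENat.natCast_ne_top 2)).1 (by exact_mod_cast h1)
    exact WithBot.coe_le_coe.2 h2

theorem dim_le_two {Y : Type*} [TopologicalSpace Y] {T R : Set Y} (h : R ⊆ T) (hT : topologicalKrullDim T < (3 : ℕ)) :
    topologicalKrullDim R ≤ (2 : ℕ) :=
  le_two_of_lt_three (lt_of_le_of_lt ((Topology.IsEmbedding.inclusion h).isInducing.topologicalKrullDim_le) hT)

end Taut

section Main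

theorem finite_support {X : Scheme.{u}} [IsNoetherian X] (I : X.IdealSheafData) (hI : topologicalKrullDim I.subscheme ≤ 0) :
    (I.support : Set X).Finite ∧ ∀ x ∈ I.support, IsClosed ({x} : Set X) := by
  have h1 : IsLocallyNoetherian I.subscheme := LocallyOfFiniteType.isLocallyNoetherian I.subschemeι
  have h2 : CompactSpace I.subscheme := QuasiCompact.compactSpace_of_compactSpace I.subschemeι
  have h3 : IsLocallyArtinian I.subscheme := IsLocallyArtinian.of_topologicalKrullDim_le_zero hI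
  have h4 : IsArtinianScheme I.subscheme := { }
  have h5 : Finite I.subscheme := inferInstance
  have h6 : DiscreteTopology I.subscheme := inferInstance
  rw [← I.range_subschemeι]
  refine ⟨Set.finite_range _, ?_⟩
  intro x hx
  have hx' : x ∈ Set.range I.subschemeι := by rw [I.range_subschemeι]; exact hx
  obtain ⟨y, rfl⟩ := hx'
  rw [← Set.image_singleton]
  exact I.subschemeι.isClosedEmbedding.isClosedMap _ (isClosed_discrete _)

variable (k : Type u) [Field k] {X : Scheme.{u}} [X.Over (Spec (CommRingCat.of k))]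
  [IsProper (X ↘ Spec (CommRingCat.of k))]
  [IsAlgClosed k] [AlgebraicGeometry.IsIntegral X] [Smooth (X ↘ Spec (CommRingCat.of k))]
    (hdim : topologicalKrullDim X = 2)
    (Hl : X.Modules) (hHl : CohB1.IsAmple Hl) (Hs : Scheme.{u})
    [Hs.Over (Spec (CommRingCat.of k))] [IsProper (Hs ↘ Spec (CommRingCat.of k))]
    (Z : HilbD.Obj (X ↘ Spec (CommRingCat.of k)) 2 (CategoryTheory.Over.mk (Hs ↘ Spec (CommRingCat.of k))))
    (hU : HilbD.IsUniversal (X ↘ Spec (CommRingCat.of k)) 2
      (CategoryTheory.Over.mk (Hs ↘ Spec (CommRingCat.of k))) Z)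

include hdim hHl hU

theorem exists_small (I : X.IdealSheafData) (hI : topologicalKrullDim I.subscheme ≤ 0) :
    ∃ T : Set Hs, IsClosed T ∧ topologicalKrullDim T < (3 : ℕ) ∧
      ∀ z, TautSh.famToX (X ↘ Spec (CommRingCat.of k)) (CategoryTheory.Over.mk (Hs ↘ Spec (CommRingCat.of k))) Z.1 z
        ∈ I.support →
      TautSh.famToH (X ↘ Spec (CommRingCat.of k)) (CategoryTheory.Over.mk (Hs ↘ Spec (CommRingCat.of k))) Z.1 z ∈ T := by
  have := Fga.IntAdd.isNoetherian k X
  obtain ⟨hfin, hcl⟩ := finite_support I hI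
  have hF : IsFinite (TautSh.famToH (X ↘ Spec (CommRingCat.of k))
    (CategoryTheory.Over.mk (Hs ↘ Spec (CommRingCat.of k))) Z.1) := Z.2.1.1
  have hclm : IsClosedMap (TautSh.famToH (X ↘ Spec (CommRingCat.of k))
    (CategoryTheory.Over.mk (Hs ↘ Spec (CommRingCat.of k))) Z.1) := Scheme.Hom.isClosedMap _
  have hpre : ∀ x ∈ (I.support : Set X), IsClosed ((TautSh.famToX (X ↘ Spec (CommRingCat.of k))
      (CategoryTheory.Over.mk (Hs ↘ Spec (CommRingCat.of k))) Z.1) ⁻¹' {x} : Set _) := fun x hx =>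
    (hcl x hx).preimage (Scheme.Hom.continuous _)
  obtain ⟨T, hT, hTd, hTs⟩ := K527.DimSet.exists_closed (X := Hs) hfin
    (fun x => TautSh.famToH (X ↘ Spec (CommRingCat.of k))
      (CategoryTheory.Over.mk (Hs ↘ Spec (CommRingCat.of k))) Z.1 ''
      ((TautSh.famToX (X ↘ Spec (CommRingCat.of k))
      (CategoryTheory.Over.mk (Hs ↘ Spec (CommRingCat.of k))) Z.1) ⁻¹' {x}))
    (fun x hx => hclm _ (hpre x hx)) (n := ((3 : ℕ) : WithBot ℕ∞))
    (by rw [K527.DimSet.dim_empty]; exact K527.DimSet.bot_lt_nat 3)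
    (fun x hx => by
      refine lt_of_le_of_lt ((K527.DimSet.dim_image_le _ hclm _ (hpre x hx)).trans
        (K974.ThroughPt.dim_through_point k X hdim Hl hHl Hs Z hU x (hcl x hx))) ?_
      exact_mod_cast Nat.lt_succ_self 2)
  exact ⟨T, hT, hTd, fun z hz => hTs _ hz ⟨z, rfl, rfl⟩⟩

theorem main {A : Hs.Modules} (hA : CohB1.IsAmple A) {L : X.Modules} (hL : PicF.IsInvertible L)
    (I : X.IdealSheafData) (hI : topologicalKrullDim I.subscheme ≤ 0)
    (h : ShStab.IsMuStable k Hs A (TautSh.taut (X ↘ Spec (CommRingCat.of k))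
      (CategoryTheory.Over.mk (Hs ↘ Spec (CommRingCat.of k))) Z.1 L) 4) :
    ShStab.IsMuStable k Hs A (TautSh.taut (X ↘ Spec (CommRingCat.of k))
      (CategoryTheory.Over.mk (Hs ↘ Spec (CommRingCat.of k))) Z.1 (CohB1.tensorMod L (ClSub.idealMod I))) 4 := by
  have hNX := Fga.IntAdd.isNoetherian k X
  have hNH := Fga.IntAdd.isNoetherian k Hs
  obtain ⟨T, hT, hTd, hTs⟩ := exists_small k hdim Hl hHl Hs Z hU I hI
  have hF : IsFinite (TautSh.famToH (X ↘ Spec (CommRingCat.of k))
    (CategoryTheory.Over.mk (Hs ↘ Spec (CommRingCat.of k))) Z.1) := Z.2.1.1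
  obtain ⟨hk, hc⟩ := taut_supports (X ↘ Spec (CommRingCat.of k))
    (CategoryTheory.Over.mk (Hs ↘ Spec (CommRingCat.of k))) Z.1 (psi L I)
    ⟨(I.support : Set X)ᶜ, I.support.isClosed.isOpen_compl⟩ (fun V' hV' => psi_bijective hL I V' hV') T hT
    (fun z hz => hTs z (not_not.1 hz))
  have hdH : topologicalKrullDim Hs = (2 + 2 : ℕ) := by
    exact_mod_cast (K888.HilbReg.regular k X hdim Hl hHl Hs Z hU).2.1
  have h1 := isCoh_taut (X ↘ Spec (CommRingCat.of k))
    (CategoryTheory.Over.mk (Hs ↘ Spec (CommRingCat.of k))) Z.1 (isCoh_idealTwist hL I)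
  have h2 := isCoh_taut (X ↘ Spec (CommRingCat.of k))
    (CategoryTheory.Over.mk (Hs ↘ Spec (CommRingCat.of k))) Z.1 (Sga67.CohBasic.isCoh_of_iso (Ega2.Tens.runit L)
      (K396.Taut.isCoh_tens hL (CurvesC.UnitCoh.isCoh_unit X)))
  exact K254.MuMap.isMuStable_of_map k hA 2 hdH h1 h2 _ (dim_le_two hk hTd) (dim_le_two hc hTd) h

end Main

end K687.Taut
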